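import Cfsg.Agent.ThreePrime72.Join
import Cfsg.Agent.ThreePrime72.Free
import Cfsg.Agent.LocalEven62.Basic

/-!
# Simple groups of order prime to three: a proper subgroup when the cores are not trivial
-/

set_option autoImplicit false
set_option linter.style.haveILetI false

namespace Cfsg.Agent.ThreePrime24

open Subgroup ThreePrime72

universe u

variable {G : Type u} [Group G]

omit [Group G] in
theorem two_pow_succ_sub_one {n : ℕ} (hn : Odd n) : 3 ∣ 2 * 2 ^ n - 1 := by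
  obtain ⟨j, rfl⟩ := hn
  have h : 2 * 2 ^ (2 * j + 1) = 4 ^ (j + 1) := by
    rw [show (4 : ℕ) = 2 ^ 2 by norm_num, ← pow_mul, ← pow_succ']
    ring_nf
  rw [h]
  simpa using Nat.sub_dvd_pow_sub_pow 4 1 (j + 1)

variable [Finite G]

/-- An invariant subgroup of `A` is trivial or `A`. -/
theorem eq_bot_or_eq_of_invariant {S : Sylow 2 G} {A : Subgroup G} (h : ThreePrime72.Setup S A)
    {C : Subgroup G} (hC : C ≤ A)
    (hinv : ∀ g ∈ normalizer (A : Set G), ∀ x ∈ C, g * x * g⁻¹ ∈ C) : C = ⊥ ∨ C = A :=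
  h.irr C hC fun g hg => LocalEven62.mem_normalizer_of_conj_mem (hinv g hg)

/-- Piece FourLe. -/
theorem fourLe : FourLeStmt.{u} := by
  intro G _ _ hG S A U B h hUA hBA hdisj hsup hB ⟨n, hn, hn3, hUc⟩ htr
  haveI : Fact (Nat.Prime 2) := ⟨Nat.prime_two⟩
  have hA8 := h.big
  by_contra hlt
  -- `B` has order two
  have hB2 : Nat.card ↥B = 2 := by
    obtain ⟨k, hk⟩ := IsPGroup.iff_card.1 (h.isPGroup.to_le hBA)
    rw [hk] at hlt ⊢
    have h1 : k ≠ 0 := fun e => hB (eq_bot_of_card_eq B (by rw [hk, e, pow_zero]))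
    have h2 : k < 2 := by
      by_contra h2
      exact hlt (Nat.pow_le_pow_right two_pos (not_lt.1 h2))
    rw [show k = 1 by omega, pow_one]
  obtain ⟨⟨b, hb⟩, hb1', huniq⟩ := (Nat.card_eq_two_iff' (1 : ↥B)).1 hB2
  have hb1 : b ≠ 1 := fun e => hb1' (Subtype.ext e)
  have hBcases : ∀ x ∈ B, x = 1 ∨ x = b := fun x hx => by
    by_cases hx1 : x = 1
    · exact Or.inl hx1
    · exact Or.inr (congrArg Subtype.val (huniq ⟨x, hx⟩ fun e => hx1 (congrArg Subtype.val e)))
  have hbA := hBA hb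
  have hcomm : ∀ x ∈ A, ∀ y ∈ A, x * y = y * x := fun x hx y hy => PN72.elem_comm h.elem hx hy
  have hbU : b ∉ U := fun hu => hb1 (mem_bot.1 (hdisj ▸ ⟨hu, hb⟩))
  have hAdec : ∀ x ∈ A, x ∈ U ∨ ∃ u ∈ U, x = u * b := by
    intro x hx
    rw [← hsup] at hx
    have h1 : (x : G) ∈ ((U ⊔ B : Subgroup G) : Set G) := hx
    rw [coe_mul_of_left_le_normalizer_right U B fun u hu => mem_normalizer_iff.2 fun z =>
      ⟨fun hz => by rwa [hcomm u (hUA hu) z (hBA hz), mul_inv_cancel_right],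
        fun hz => by
          have h2 := hcomm u (hUA hu) _ (hBA hz)
          have h3 : z = u * z * u⁻¹ := mul_left_cancel (a := u) (by rw [h2]; group)
          rwa [h3]⟩] at h1
    obtain ⟨u, hu, w, hw, rfl⟩ := Set.mem_mul.1 h1
    rcases hBcases w hw with rfl | rfl
    · exact Or.inl (by rwa [mul_one])
    · exact Or.inr ⟨u, hu, rfl⟩
  -- the orbit of `b`
  let P : G → Prop := fun x => ∃ g ∈ normalizer (A : Set G), g * b * g⁻¹ = x
  have hPb : P b := ⟨1, one_mem _, by group⟩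
  have hPconj : ∀ g ∈ normalizer (A : Set G), ∀ x, P x → P (g * x * g⁻¹) := by
    rintro g hg x ⟨k, hk, rfl⟩
    exact ⟨g * k, mul_mem hg hk, by group⟩
  have hPne : ∀ x, P x → x ≠ 1 := by
    rintro x ⟨k, -, rfl⟩ e
    exact hb1 (conj_eq_one_iff.1 e)
  have hnA : ∀ g ∈ normalizer (A : Set G), ∀ x ∈ A, g * x * g⁻¹ ∈ A :=
    fun g hg x hx => (mem_normalizer_iff.1 hg x).1 hx
  by_cases hP2 : ∃ u ∈ U, u ≠ 1 ∧ P (u * b)
  · obtain ⟨u0, hu0, hu01, hP0⟩ := hP2
    have hall : ∀ u ∈ U, P (u * b) := by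
      intro u hu
      by_cases hu1 : u = 1
      · rw [hu1, one_mul]; exact hPb
      · obtain ⟨g, hg, hgb, hgu⟩ := htr u0 hu0 hu01 u hu hu1
        have := hPconj g hg _ hP0
        rwa [show g * (u0 * b) * g⁻¹ = g * u0 * g⁻¹ * (g * b * g⁻¹) by group, hgu, hgb b hb,
          mul_inv_cancel_right] at this
    by_cases hP1 : ∃ u ∈ U, P u
    · -- all nontrivial elements of `A` are conjugate
      obtain ⟨u1, hu1, hPu1⟩ := hP1
      have hfull : ∀ x ∈ A, x ≠ 1 → P x := by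
        intro x hx hx1
        rcases hAdec x hx with hxU | ⟨u, hu, rfl⟩
        · obtain ⟨g, hg, -, hgu⟩ := htr u1 hu1 (hPne u1 hPu1) x hxU hx1
          have := hPconj g hg _ hPu1
          rwa [hgu] at this
        · exact hall u hu
      letI : MulAction ↥(normalizer (A : Set G)) G :=
        MulAction.compHom G (MulAut.conj.comp (normalizer (A : Set G)).subtype)
      have horb : MulAction.orbit ↥(normalizer (A : Set G)) b = (A : Set G) \ {1} := by
        ext x
        constructor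
        · rintro ⟨g, rfl⟩
          exact ⟨hnA g g.2 b hbA, hPne _ ⟨g, g.2, rfl⟩⟩
        · rintro ⟨hx, hx1⟩
          obtain ⟨g, hg, hgx⟩ := hfull x hx hx1
          exact ⟨⟨g, hg⟩, hgx⟩
      have hdvd := (MulAction.stabilizer ↥(normalizer (A : Set G)) b).index_dvd_card
      rw [MulAction.index_stabilizer, horb, Set.ncard_diff_singleton_of_mem (one_mem A),
        ← Nat.card_coe_set_eq] at hdvd
      have hcardA : Nat.card ↥A = 2 * 2 ^ n := by
        rw [← hUc, mul_comm, ← hB2, ← Nat.card_prod]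
        refine (Nat.card_congr (Equiv.ofBijective
          (fun p : ↥U × ↥B => (⟨p.1 * p.2, mul_mem (hUA p.1.2) (hBA p.2.2)⟩ : ↥A)) ⟨?_, ?_⟩)).symm
        · intro p q hpq
          exact mul_injective_of_disjoint (disjoint_iff.2 hdisj) (congrArg Subtype.val hpq)
        · rintro ⟨x, hx⟩
          rcases hAdec x hx with hxU | ⟨u, hu, rfl⟩
          · exact ⟨(⟨x, hxU⟩, 1), Subtype.ext (by simp)⟩
          · exact ⟨(⟨u, hu⟩, ⟨b, hb⟩), rfl⟩
      have h3 : 3 ∣ Nat.card ↥A - 1 := hcardA ▸ two_pow_succ_sub_one hn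
      exact hG.three ((h3.trans hdvd).trans (card_subgroup_dvd_card _))
    · -- `U` is invariant
      refine (eq_bot_or_eq_of_invariant h hUA fun g hg u hu => ?_).elim (fun e => ?_)
        (fun e => hbU (e ▸ hbA))
      · rcases hAdec _ (hnA g hg u (hUA hu)) with hgu | ⟨u', hu', hgu⟩
        · exact hgu
        · exfalso
          refine hP1 ⟨u, hu, ?_⟩
          have := hPconj g⁻¹ (inv_mem hg) _ (hall u' hu')
          rwa [← hgu, show g⁻¹ * (g * u * g⁻¹) * g⁻¹⁻¹ = u by group] at this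
      · rw [e, card_bot] at hUc
        exact absurd hUc (Nat.ne_of_lt (Nat.one_lt_two_pow (by omega)))
  · by_cases hP1 : ∃ u ∈ U, P u
    · obtain ⟨u1, hu1, g, hg, hgb⟩ := hP1
      have hu11 : u1 ≠ 1 := hPne _ ⟨g, hg, hgb⟩
      have hPU : ∀ u ∈ U, u ≠ 1 → P u := by
        intro u hu hu1'
        obtain ⟨k, hk, -, hku⟩ := htr u1 hu1 hu11 u hu hu1'
        have := hPconj k hk _ ⟨g, hg, hgb⟩
        rwa [hku] at this
      have himg : ∀ u ∈ U, u ≠ 1 → g * u * g⁻¹ = b := by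
        intro u hu hu1'
        rcases hAdec _ (hnA g hg u (hUA hu)) with hgu | ⟨u', hu', hgu⟩
        · exfalso
          have hne : g * u * g⁻¹ * u1 ≠ 1 := by
            rw [← hgb, show g * u * g⁻¹ * (g * b * g⁻¹) = g * (u * b) * g⁻¹ by group]
            intro e
            refine hbU ?_
            have he : u * b = 1 := conj_eq_one_iff.1 e
            rw [← inv_eq_of_mul_eq_one_right he]
            exact inv_mem hu
          have h2 := hPU _ (mul_mem hgu hu1) hne
          rw [← hgb, show g * u * g⁻¹ * (g * b * g⁻¹) = g * (u * b) * g⁻¹ by group] at h2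
          have h4 := hPconj g⁻¹ (inv_mem hg) _ h2
          rw [show g⁻¹ * (g * (u * b) * g⁻¹) * g⁻¹⁻¹ = u * b by group] at h4
          exact hP2 ⟨u, hu, hu1', h4⟩
        · by_cases hu'1 : u' = 1
          · rw [hgu, hu'1, one_mul]
          · exfalso
            refine hP2 ⟨u', hu', hu'1, ?_⟩
            rw [← hgu]
            exact hPconj g hg u (hPU u hu hu1')
      -- `U` has only one nontrivial element
      have hU2 : Nat.card ↥U ≤ 2 := by
        have hsub : (U : Set G) ⊆ {1, g⁻¹ * b * g} := fun u hu => by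
          by_cases hu1' : u = 1
          · exact Or.inl hu1'
          · exact Or.inr (show u = g⁻¹ * b * g by rw [← himg u hu hu1']; group)
        have := Set.ncard_le_ncard hsub
        rw [← Nat.card_coe_set_eq] at this
        exact this.trans (le_trans (Set.ncard_insert_le _ _) (by simp))
      have : 8 ≤ 2 ^ n := Nat.pow_le_pow_right two_pos hn3
      omega
    · -- `B` is invariant
      refine (eq_bot_or_eq_of_invariant h hBA fun g hg x hx => ?_).elim hB (fun e => ?_)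
      · rcases hBcases x hx with rfl | rfl
        · simp
        · rcases hAdec _ (hnA g hg x hbA) with hgu | ⟨u', hu', hgu⟩
          · exact absurd ⟨_, hgu, g, hg, rfl⟩ hP1
          · by_cases hu'1 : u' = 1
            · rw [hgu, hu'1, one_mul]; exact hb
            · exact absurd ⟨u', hu', hu'1, g, hg, hgu⟩ hP2
      · rw [e] at hB2
        omega

variable {S : Sylow 2 G} {A : Subgroup G}

/-- Centralizers of noncyclic subgroups of `A` normalize `W A`. -/
theorem centralizer_le_normalizer_W (hF : FunctorStmt.{u}) (hG : ThreePrime72.Min G)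
    (h : ThreePrime72.Setup S A) {B : Subgroup G} (hBA : B ≤ A) (hB : 3 ≤ Nat.card ↥B) :
    centralizer (B : Set G) ≤ normalizer ((W A : Subgroup G) : Set G) := by
  obtain ⟨hodd, hθ⟩ := h.W_spec hF hG
  haveI := h.elem.1
  have hBel : Cfsg.IsElementaryAbelian 2 B :=
    ⟨⟨⟨fun a b => Subtype.ext (PN72.elem_comm h.elem (hBA a.2) (hBA b.2))⟩⟩,
      fun a ha => h.elem.2 a (hBA ha)⟩
  have heq : W A = W B := by
    refine le_antisymm (PN72.le_of_gen hBel hB
      (hBA.trans (le_normalizer.trans (normalizer_le_W A))) hodd fun b hb hb1 => ?_) (W_mono hBA)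
    rw [hθ b (hBA hb) hb1]
    exact th_le_W hb hb1
  rw [heq]
  refine le_trans (fun x hx => ?_) (normalizer_le_W B)
  exact centralizer_le_normalizer (B : Set G) hx

/-- The centralizers of the elements of `A` normalize `W A`. -/
theorem centralizer_singleton_le_normalizer_W (hK : KSecStmt.{u}) (hF : FunctorStmt.{u})
    (hG : ThreePrime72.Min G) (h : ThreePrime72.Setup S A) {a : G} (ha : a ∈ A) (ha1 : a ≠ 1) :
    centralizer ({a} : Set G) ≤ normalizer ((W A : Subgroup G) : Set G) := by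
  classical
  haveI : Fact (Nat.Prime 2) := ⟨Nat.prime_two⟩
  set X := centralizer ({a} : Set G) with hXdef
  set N := normalizer ((W A : Subgroup G) : Set G) with hN
  have hAX : A ≤ X := fun x hx => mem_centralizer_singleton_iff.2 (PN72.elem_comm h.elem hx ha)
  obtain ⟨T, hAT, hTA⟩ := h.exists_sylow hAX
  have hH := h.kHyp hG (hG.centralizer_ne_top ha1) T hTA (inf_le_left.trans hAT)
  obtain ⟨-, htop, -, hmv⟩ := hK _ _ _ hH
  set q := quo X with hq
  set Y : Subgroup ↥X := N.subgroupOf X with hY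
  have hker : q.ker ≤ Y := fun x hx => by
    refine mem_subgroupOf.2 (le_normalizer ?_)
    refine th_le_W ha ha1 ?_
    exact mem_oddOf.2 ((QuotientGroup.eq_one_iff x).1 hx)
  suffices hYt : Y.map q = ⊤ by
    intro x hx
    have h1 : q ⟨x, hx⟩ ∈ Y.map q := hYt ▸ mem_top _
    rw [← mem_comap, comap_map_eq_self hker] at h1
    exact h1
  refine top_unique (htop.ge.trans ((closure_le _).2 ?_))
  rintro y (hy | hy)
  · obtain ⟨x, hx, rfl⟩ := h.exists_normalizer_lift' hAX hy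
    exact ⟨x, normalizer_le_W A hx, rfl⟩
  simp only [Set.mem_iUnion, Set.mem_setOf_eq] at hy
  obtain ⟨L, hL, hyL⟩ := hy
  obtain ⟨U, n, hU, hn, hn3, hUc, hdisj, hsup, -, htr, -⟩ := hmv L hL
  set U0 : Subgroup G := (A.subgroupOf X ⊓ U.comap q).map X.subtype with hU0
  set B0 : Subgroup G :=
    (A.subgroupOf X ⊓ (centralizer (L : Set _)).comap q).map X.subtype with hB0
  have hmem : ∀ (V : Subgroup (↥X ⧸ Cfsg.pPrimeCore 2 ↥X)) (x : ↥X),
      (x : G) ∈ (A.subgroupOf X ⊓ V.comap q).map X.subtype ↔ (x : G) ∈ A ∧ q x ∈ V := by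
    intro V x
    constructor
    · rintro ⟨z, ⟨hz1, hz2⟩, hze⟩
      obtain rfl : z = x := Subtype.ext hze
      exact ⟨hz1, hz2⟩
    · rintro ⟨h1, h2⟩
      exact ⟨x, ⟨h1, h2⟩, rfl⟩
  have hle : ∀ V : Subgroup (↥X ⧸ Cfsg.pPrimeCore 2 ↥X),
      (A.subgroupOf X ⊓ V.comap q).map X.subtype ≤ A := by
    rintro V _ ⟨z, hz, rfl⟩
    exact hz.1
  have hU0A : U0 ≤ A := hle U
  have hB0A : B0 ≤ A := hle _
  have hd : U0 ⊓ B0 = ⊥ := by
    rw [eq_bot_iff]
    rintro z ⟨hzU, hzB⟩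
    obtain ⟨x, hx, rfl⟩ := hzU
    have hxB := (hmem _ x).1 hzB
    have h1 : q x ∈ U ⊓ (img X A ⊓ centralizer (L : Set _)) :=
      ⟨hx.2, ⟨x, hx.1, rfl⟩, hxB.2⟩
    rw [hdisj, mem_bot] at h1
    rw [mem_bot]
    exact congrArg Subtype.val (h.eq_one_of_quo hxB.1 h1)
  have hs : U0 ⊔ B0 = A := by
    refine le_antisymm (sup_le hU0A hB0A) fun z hz => ?_
    have h1 : q ⟨z, hAX hz⟩ ∈ ((U ⊔ (img X A ⊓ centralizer (L : Set _)) :
        Subgroup _) : Set (↥X ⧸ Cfsg.pPrimeCore 2 ↥X)) := by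
      rw [hsup]
      exact ⟨⟨z, hAX hz⟩, hz, rfl⟩
    rw [coe_mul_of_left_le_normalizer_right] at h1
    swap
    · haveI := hH.elem.1
      intro u hu
      refine centralizer_le_normalizer _ (mem_centralizer_iff.2 fun w hw => ?_)
      exact congrArg Subtype.val (mul_comm' (⟨w, hw.1⟩ : ↥(img X A)) ⟨u, (hU hu).1⟩)
    obtain ⟨_, huU, _, ⟨⟨w, hw, rfl⟩, hwL⟩, huw⟩ := Set.mem_mul.1 h1
    obtain ⟨u, hu, rfl⟩ := (hU huU).1
    have huw' : q (u * w) = q ⟨z, hAX hz⟩ := by rw [map_mul]; exact huw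
    have he := h.quo_injOn (x := u * w) (y := ⟨z, hAX hz⟩) (mul_mem hu hw) hz huw'
    rw [show z = (u : G) * w from (congrArg Subtype.val he).symm]
    exact mul_mem (mem_sup_left ((hmem U u).2 ⟨hu, huU⟩))
      (mem_sup_right ((hmem _ w).2 ⟨hw, hwL⟩))
  have haB : a ∈ B0 := by
    refine (hmem _ ⟨a, hAX ha⟩).2 ⟨ha, mem_centralizer_iff.2 fun l _ => ?_⟩
    obtain ⟨x, rfl⟩ := QuotientGroup.mk'_surjective _ l
    rw [← map_mul, ← map_mul]
    exact congrArg q (Subtype.ext (mem_centralizer_singleton_iff.1 x.2))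
  have hU0c : Nat.card ↥U0 = 2 ^ n := by
    rw [← hUc, hU0, card_map_of_injective X.subtype_injective]
    refine Nat.card_congr (Equiv.ofBijective
      (fun x : ↥(A.subgroupOf X ⊓ U.comap q) => (⟨q x, x.2.2⟩ : ↥U)) ⟨fun x y hxy => ?_, ?_⟩)
    · exact Subtype.ext (h.quo_injOn x.2.1 y.2.1 (congrArg Subtype.val hxy))
    · rintro ⟨y, hy⟩
      obtain ⟨x, hx, rfl⟩ := (hU hy).1
      exact ⟨⟨x, hx, hy⟩, rfl⟩
  have h4 : 4 ≤ Nat.card ↥B0 := by
    refine fourLe G hG S A U0 B0 h hU0A hB0A hd hs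
      (fun e => ha1 (mem_bot.1 (e ▸ haB))) ⟨n, hn, hn3, hU0c⟩ ?_
    rintro _ ⟨x, ⟨hxA, hxU⟩, rfl⟩ hx1 _ ⟨z, ⟨hzA, hzU⟩, rfl⟩ hz1
    obtain ⟨g, hgL, hgA, -, hgx⟩ := htr (q x) hxU
      (fun e => hx1 (congrArg Subtype.val (h.eq_one_of_quo hxA e))) (q z) hzU
      (fun e => hz1 (congrArg Subtype.val (h.eq_one_of_quo hzA e)))
    obtain ⟨g0, hg0, rfl⟩ := h.exists_normalizer_lift' hAX hgA
    have hfix : ∀ w : ↥X, (w : G) ∈ A → ((g0 * w * g0⁻¹ : ↥X) : G) ∈ A :=
      fun w hw => (mem_normalizer_iff.1 hg0 _).1 hw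
    refine ⟨g0, hg0, fun b hb => ?_, ?_⟩
    · obtain ⟨w, ⟨hwA, hwL⟩, rfl⟩ := hb
      have h5 : g0 * w * g0⁻¹ = w := h.quo_injOn (hfix w hwA) hwA (by
        rw [map_mul, map_mul, map_inv]
        rw [mem_centralizer_iff.1 hwL _ hgL, mul_inv_cancel_right])
      exact congrArg Subtype.val (mul_inv_eq_iff_eq_mul.1 h5)
    · have h5 : g0 * x * g0⁻¹ = z := h.quo_injOn (hfix x hxA) hzA (by
        rw [map_mul, map_mul, map_inv]
        exact hgx)
      exact congrArg Subtype.val h5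
  obtain ⟨x, hx, rfl⟩ : ∃ x : ↥X, (x : G) ∈ centralizer (B0 : Set G) ∧ q x = y := by
    refine h.exists_centralizer_lift hB0A (hB0A.trans hAX) (mem_centralizer_iff.2 ?_)
    rintro _ ⟨w, hw, rfl⟩
    exact (mem_centralizer_iff.1 ((hmem _ w).1 hw).2 y hyL).symm
  exact ⟨x, centralizer_le_normalizer_W hF hG h hB0A (by omega) hx, rfl⟩

/-- Piece ProperCore: `M = N(W A)`. -/
theorem properCore (hK : KSecStmt.{u}) (hF : FunctorStmt.{u}) : ProperCoreStmt.{u} := by
  intro G _ _ hG S A h hW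
  have hodd := (h.W_spec hF hG).1
  have htop : W A ≠ ⊤ := by
    intro e
    rw [e, card_top] at hodd
    obtain ⟨k, hk⟩ := IsPGroup.iff_card.1 h.isPGroup
    have := h.big
    rw [hk] at this
    refine hodd ((dvd_pow_self 2 (fun e0 => ?_)).trans (hk ▸ card_subgroup_dvd_card A))
    rw [e0] at this
    omega
  exact ⟨normalizer ((W A : Subgroup G) : Set G), h, hG.normalizer_ne_top hW htop,
    normalizer_le_W A, fun a ha ha1 => centralizer_singleton_le_normalizer_W hK hF hG h ha ha1,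
    le_rfl⟩

end Cfsg.Agent.ThreePrime24
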