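import Cfsg.Prelude.Def_TwoFusion
import Cfsg.Prelude.Def_LocalEven
import Cfsg.Agent.Lib.Transfer.Focal

/-!
# A strongly closed subgroup controlling strong fusion

Elementary consequences used with the conclusion of the strongly closed abelian subgroup theorem
for groups without a symmetric section of degree four.
-/

set_option autoImplicit false

namespace Cfsg.Agent.ThreePrime24

open Subgroup

universe u

variable {G : Type u} [Group G] [Finite G]

/-- `N(A)` controls strong fusion in the fixed Sylow `2`-subgroup `S`. -/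
structure Control (S : Sylow 2 G) (A : Subgroup G) : Prop where
  sc : Cfsg.IsStronglyClosed A (S : Subgroup G)
  ctl : ∀ (X : Set G) (g : G), X ⊆ ((S : Subgroup G) : Set G) →
    (∀ x ∈ X, g * x * g⁻¹ ∈ (S : Subgroup G)) →
    ∃ n ∈ normalizer (A : Set G), ∀ x ∈ X, n * x * n⁻¹ = g * x * g⁻¹

omit [Finite G] in
/-- The element supplied by strong control differs by a centralizing element. -/
theorem inv_mul_mem_centralizer {X : Set G} {g n : G}
    (h : ∀ x ∈ X, n * x * n⁻¹ = g * x * g⁻¹) : n⁻¹ * g ∈ centralizer X := by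
  rw [mem_centralizer_iff]
  intro x hx
  have h1 := h x hx
  calc x * (n⁻¹ * g) = n⁻¹ * (n * x * n⁻¹) * g := by group
    _ = n⁻¹ * (g * x * g⁻¹) * g := by rw [h1]
    _ = n⁻¹ * g * x := by group

/-- An element mapping `A` into `S` normalizes `A`. -/
theorem mem_normalizer_of_conj_le {S : Sylow 2 G} {A : Subgroup G}
    (hsc : Cfsg.IsStronglyClosed A (S : Subgroup G)) {g : G}
    (hg : ∀ a ∈ A, g * a * g⁻¹ ∈ (S : Subgroup G)) : g ∈ normalizer (A : Set G) := by
  have hle : A.map (MulAut.conj g).toMonoidHom ≤ A := by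
    rintro _ ⟨a, ha, rfl⟩
    exact hsc.2 a ha g (hg a ha)
  have heq : A.map (MulAut.conj g).toMonoidHom = A :=
    eq_of_le_of_card_ge hle (card_map_of_injective (MulAut.conj g).injective).ge
  rw [mem_normalizer_iff]
  intro a
  constructor
  · intro ha
    exact hsc.2 a ha g (hg a ha)
  · intro ha
    rw [← heq] at ha
    obtain ⟨b, hb, hba⟩ := ha
    have : b = a := (MulAut.conj g).injective (hba.trans (MulAut.conj_apply g a).symm)
    rwa [← this]

/-- The control statement of the theorem, transported to the given Sylow subgroup. -/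
theorem control_of (S : Sylow 2 G) {A : Subgroup G}
    (hsc : Cfsg.IsStronglyClosed A (S : Subgroup G)) (hcon : Cfsg.ControlsStrongFusion 2 A) :
    Control S A := by
  haveI : Fact (Nat.Prime 2) := ⟨Nat.prime_two⟩
  obtain ⟨T, hAT, hT⟩ := hcon
  obtain ⟨c, hc⟩ := MulAction.exists_smul_eq G T S
  have hTS : ∀ t ∈ (T : Subgroup G), c * t * c⁻¹ ∈ (S : Subgroup G) := by
    intro t ht
    rw [← hc, Sylow.coe_subgroup_smul]
    exact smul_mem_pointwise_smul t (MulAut.conj c) _ ht
  have hST : ∀ s ∈ (S : Subgroup G), c⁻¹ * s * c ∈ (T : Subgroup G) := by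
    intro s hs
    rw [← hc, Sylow.coe_subgroup_smul, mem_pointwise_smul_iff_inv_smul_mem] at hs
    simpa [MulAut.smul_def] using hs
  have hcA : c ∈ normalizer (A : Set G) :=
    mem_normalizer_of_conj_le hsc fun a ha => hTS a (hAT ha)
  refine ⟨hsc, fun X g hX hg => ?_⟩
  have hsub : (fun x => c⁻¹ * x * c) '' X ⊆ ((T : Subgroup G) : Set G) := by
    rintro _ ⟨x, hx, rfl⟩
    exact hST x (hX hx)
  obtain ⟨-, h⟩ := hT _ hsub
  obtain ⟨n, hn, hnX⟩ := h (c⁻¹ * g * c) (by
    rintro _ ⟨_, ⟨x, hx, rfl⟩, rfl⟩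
    have := hST _ (hg x hx)
    show c⁻¹ * g * c * (c⁻¹ * x * c) * (c⁻¹ * g * c)⁻¹ ∈ (T : Subgroup G)
    convert this using 1
    group)
  refine ⟨c * n * c⁻¹, mul_mem (mul_mem hcA hn) (inv_mem hcA), fun x hx => ?_⟩
  have h1 := hnX _ ⟨x, hx, rfl⟩
  calc c * n * c⁻¹ * x * (c * n * c⁻¹)⁻¹ = c * (n * (c⁻¹ * x * c) * n⁻¹) * c⁻¹ := by group
    _ = c * (c⁻¹ * g * c * (c⁻¹ * x * c) * (c⁻¹ * g * c)⁻¹) * c⁻¹ := by rw [← h1]
    _ = g * x * g⁻¹ := by group

/-- `N(A)` controls fusion of single elements of `A`. -/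
theorem Control.fus {S : Sylow 2 G} {A : Subgroup G} (hc : Control S A) {a g : G} (ha : a ∈ A)
    (hga : g * a * g⁻¹ ∈ (S : Subgroup G)) :
    ∃ n ∈ normalizer (A : Set G), n * a * n⁻¹ = g * a * g⁻¹ := by
  obtain ⟨n, hn, h⟩ := hc.ctl {a} g (Set.singleton_subset_iff.2 (hc.sc.1 ha))
    (fun x hx => by rw [Set.mem_singleton_iff.1 hx]; exact hga)
  exact ⟨n, hn, h a rfl⟩

/-- A normalizer element of a subgroup of `S` is a product from `N(A)` and its centralizer. -/
theorem Control.exists_normalizer {S : Sylow 2 G} {A R : Subgroup G} (hc : Control S A)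
    (hR : R ≤ (S : Subgroup G)) {g : G} (hg : g ∈ normalizer (R : Set G)) :
    ∃ n ∈ normalizer (A : Set G), n⁻¹ * g ∈ centralizer (R : Set G) := by
  obtain ⟨n, hn, h⟩ := hc.ctl (R : Set G) g hR fun x hx =>
    hR ((mem_normalizer_iff.1 hg x).1 hx)
  exact ⟨n, hn, inv_mul_mem_centralizer h⟩

/-- An `N(A)`-invariant subgroup of `A` inherits strong closure and control. -/
theorem Control.of_invariant {S : Sylow 2 G} {A B : Subgroup G} (hc : Control S A) (hBA : B ≤ A)
    (hB : normalizer (A : Set G) ≤ normalizer (B : Set G)) : Control S B := by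
  refine ⟨⟨hBA.trans hc.sc.1, fun b hb g hgb => ?_⟩, fun X g hX hg => ?_⟩
  · obtain ⟨n, hn, h⟩ := hc.fus (hBA hb) hgb
    rw [← h]
    exact (mem_normalizer_iff.1 (hB hn) b).1 hb
  · obtain ⟨n, hn, h⟩ := hc.ctl X g hX hg
    exact ⟨n, hB hn, h⟩

/-- In a nontrivial `A` there is a minimal nontrivial `N(A)`-invariant subgroup with control,
on which the normalizer acts irreducibly. -/
theorem Control.exists_minimal {S : Sylow 2 G} {A : Subgroup G} (hc : Control S A) (hA : A ≠ ⊥) :
    ∃ B : Subgroup G, B ≤ A ∧ B ≠ ⊥ ∧ Control S B ∧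
      ∀ C : Subgroup G, C ≤ B → normalizer (B : Set G) ≤ normalizer (C : Set G) →
        C = ⊥ ∨ C = B := by
  have key : ∀ (k : ℕ) (D : Subgroup G), Nat.card D = k → D ≠ ⊥ → Control S D →
      ∃ B : Subgroup G, B ≤ D ∧ B ≠ ⊥ ∧ Control S B ∧
        ∀ C : Subgroup G, C ≤ B → normalizer (B : Set G) ≤ normalizer (C : Set G) →
          C = ⊥ ∨ C = B := by
    intro k
    induction k using Nat.strong_induction_on with
    | _ k ih =>
      intro D hk hD hcD
      by_cases hmin : ∀ C : Subgroup G, C ≤ D → normalizer (D : Set G) ≤ normalizer (C : Set G) →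
          C = ⊥ ∨ C = D
      · exact ⟨D, le_rfl, hD, hcD, hmin⟩
      · push Not at hmin
        obtain ⟨C, hCD, hCn, hC1, hC2⟩ := hmin
        have hlt : Nat.card C < k := hk ▸ lt_of_le_of_ne
          (Nat.le_of_dvd Nat.card_pos (card_dvd_of_le hCD))
          (fun e => hC2 (eq_of_le_of_card_ge hCD e.ge))
        obtain ⟨B, hBC, hB⟩ := ih _ hlt C rfl hC1 (hcD.of_invariant hCD hCn)
        exact ⟨B, hBC.trans hCD, hB⟩
  exact key _ A rfl hA hc

/-- `N(A)` contains the Sylow subgroup. -/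
theorem Control.sylow_le {S : Sylow 2 G} {A : Subgroup G} (hc : Control S A) :
    (S : Subgroup G) ≤ normalizer (A : Set G) := fun s hs =>
  mem_normalizer_of_conj_le hc.sc fun _ ha => mul_mem (mul_mem hs (hc.sc.1 ha)) (inv_mem hs)

/-- The focal subgroup theorem: `N(A)` has no subgroup of index two. -/
theorem Control.index_ne_two {S : Sylow 2 G} {A : Subgroup G} (hc : Control S A)
    (htop : Cfsg.pResidual 2 G = ⊤) (N : Subgroup ↥(normalizer (A : Set G))) : N.index ≠ 2 := by
  haveI : Fact (Nat.Prime 2) := ⟨Nat.prime_two⟩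
  intro hN
  haveI : N.Normal := normal_of_index_eq_two hN
  have hfoc : (S : Subgroup G).focalSubgroup ≤ ⁅(S : Subgroup G), (normalizer (A : Set G))⁆ :=
    Transfer.focalSubgroup_le_of_control fun x hx y hy ⟨g, hg⟩ => by
      obtain ⟨n, hn, h⟩ := hc.ctl {x} g (Set.singleton_subset_iff.2 hx)
        (fun z hz => by rw [Set.mem_singleton_iff.1 hz, hg]; exact hy)
      exact ⟨n, hn, (h x rfl).trans hg⟩
  have hS : (S : Subgroup G) ≤ ⁅(normalizer (A : Set G)), (normalizer (A : Set G))⁆ :=
    ((Transfer.sylow_le_focalSubgroup_of_pResidual_eq_top S htop).trans hfoc).trans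
      (commutator_mono hc.sylow_le le_rfl)
  have hab : commutator ↥(normalizer (A : Set G)) ≤ N := by
    rw [← Subgroup.Normal.quotient_commutative_iff_commutator_le]
    haveI : IsCyclic (↥(normalizer (A : Set G)) ⧸ N) := isCyclic_of_prime_card (p := 2) (by
      rw [← index_eq_card, hN])
    letI := IsCyclic.commGroup (α := ↥(normalizer (A : Set G)) ⧸ N)
    exact ⟨⟨mul_comm⟩⟩
  have hMM : ⁅(normalizer (A : Set G)), (normalizer (A : Set G))⁆ ≤ N.map (normalizer (A : Set G)).subtype := by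
    have h1 : (commutator ↥(normalizer (A : Set G))).map (normalizer (A : Set G)).subtype = ⁅(normalizer (A : Set G)), (normalizer (A : Set G))⁆ := by
      rw [commutator_def, map_commutator, ← MonoidHom.range_eq_map, range_subtype]
    exact h1 ▸ map_mono hab
  have hSN : ((S.subtype hc.sylow_le : Sylow 2 ↥(normalizer (A : Set G))) : Subgroup ↥(normalizer (A : Set G))) ≤ N := by
    intro x hx
    obtain ⟨y, hy, hyx⟩ := hMM (hS hx)
    rwa [← (normalizer (A : Set G)).subtype_injective hyx]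
  have h2 := index_dvd_of_le hSN
  rw [hN] at h2
  exact (S.subtype hc.sylow_le).not_dvd_index h2

end Cfsg.Agent.ThreePrime24
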