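import Mathlib.GroupTheory.Sylow
import Cfsg.Agent.ThreePrime24.Control

/-!
# Fusion consequences of strong control: local decomposition, one class
-/

set_option autoImplicit false

namespace Cfsg.Agent.ThreePrime24

open Subgroup

universe u

variable {G : Type u} [Group G] [Finite G]

/-- Frattini with strong control: a group `H` normalizing `Y` is `Y` times elements of
`N(A) C(R)`, where `R` is a Sylow `2`-subgroup of `Y` inside `S`. -/
theorem Control.exists_decomp {S : Sylow 2 G} {A : Subgroup G} (hc : Control S A)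
    {H Y : Subgroup G} (hYH : Y ≤ H) (hn : H ≤ normalizer (Y : Set G)) (R : Sylow 2 ↥Y)
    (hRS : (R : Subgroup ↥Y).map Y.subtype ≤ (S : Subgroup G)) {h : G} (hh : h ∈ H) :
    ∃ y ∈ Y, ∃ n ∈ normalizer (A : Set G),
      ∃ c ∈ centralizer (((R : Subgroup ↥Y).map Y.subtype : Subgroup G) : Set G),
        h = y * (n * c) ∧ n * c ∈ H := by
  haveI : Fact (Nat.Prime 2) := ⟨Nat.prime_two⟩
  set Y' : Subgroup ↥H := Y.subgroupOf H with hY'
  haveI : Y'.Normal := normal_subgroupOf_of_le_normalizer hn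
  let e : ↥Y' ≃* ↥Y := subgroupOfEquivOfLe hYH
  let R' : Sylow 2 ↥Y' := R.comapOfInjective e.toMonoidHom e.injective
    (fun x _ => ⟨e.symm x, e.apply_symm_apply x⟩)
  have hR' : ∀ x : ↥Y', x ∈ (R' : Subgroup ↥Y') ↔ e x ∈ (R : Subgroup ↥Y) := fun x => Iff.rfl
  have htop := R'.normalizer_sup_eq_top
  have hmem : (⟨h, hh⟩ : ↥H) ∈ Y' ⊔
      normalizer (((R' : Subgroup ↥Y').map Y'.subtype : Subgroup ↥H) : Set ↥H) := by
    rw [sup_comm, htop]
    trivial
  obtain ⟨y, hy, k, hk, hyk⟩ := mem_sup_of_normal_left.mp hmem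
  have hkR : (k : G) ∈ normalizer (((R : Subgroup ↥Y).map Y.subtype : Subgroup G) : Set G) := by
    rw [mem_normalizer_iff]
    intro x
    constructor
    · rintro ⟨r, hr, rfl⟩
      have h1 : (⟨(r : G), hYH r.2⟩ : ↥H) ∈ (R' : Subgroup ↥Y').map Y'.subtype :=
        ⟨⟨⟨r, hYH r.2⟩, r.2⟩, (hR' _).2 hr, rfl⟩
      obtain ⟨w, hw, hwe⟩ := (mem_normalizer_iff.1 hk _).1 h1
      refine ⟨e w, (hR' w).1 hw, ?_⟩
      exact congrArg (fun z : ↥H => (z : G)) hwe
    · rintro ⟨r, hr, hre⟩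
      have hxH : x ∈ H := by
        have : (k : G)⁻¹ * ((r : G)) * (k : G) = x := by
          rw [show ((r : G)) = (k : G) * x * (k : G)⁻¹ from hre]; group
        rw [← this]
        exact mul_mem (mul_mem (inv_mem k.2) (hYH r.2)) k.2
      have h1 : k * ⟨x, hxH⟩ * k⁻¹ ∈ (R' : Subgroup ↥Y').map Y'.subtype :=
        ⟨⟨⟨r, hYH r.2⟩, r.2⟩, (hR' _).2 hr, Subtype.ext hre⟩
      obtain ⟨w, hw, hwe⟩ := (mem_normalizer_iff.1 hk _).2 h1
      exact ⟨e w, (hR' w).1 hw, congrArg (fun z : ↥H => (z : G)) hwe⟩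
  obtain ⟨n, hn', hnc⟩ := hc.exists_normalizer hRS hkR
  refine ⟨y, hy, n, hn', n⁻¹ * k, hnc, ?_, ?_⟩
  · rw [mul_inv_cancel_left]
    exact (congrArg (fun z : ↥H => (z : G)) hyk).symm
  · rw [mul_inv_cancel_left]
    exact k.2

omit [Finite G] in
/-- If conjugates of `A` lying at different points have product of odd order, all nontrivial
elements of `A` are conjugate under `N(A)`. -/
theorem Control.transitive [Finite G] {S : Sylow 2 G} {A M : Subgroup G} (hc : Control S A)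
    (hA : ∀ a ∈ A, a * a = 1) (hM : M ≠ ⊤) (hNM : normalizer (A : Set G) ≤ M)
    (hodd : ∀ a ∈ A, a ≠ 1 → ∀ b ∈ A, b ≠ 1 → ∀ g : G, g ∉ M →
      Odd (orderOf (a * (g * b * g⁻¹))))
    {a b : G} (ha : a ∈ A) (ha1 : a ≠ 1) (hb : b ∈ A) (hb1 : b ≠ 1) :
    ∃ n ∈ normalizer (A : Set G), n * a * n⁻¹ = b := by
  obtain ⟨g, hg⟩ : ∃ g : G, g ∉ M := by
    by_contra! hall
    exact hM (eq_top_iff.2 fun g _ => hall g)
  -- two involutions whose product has odd order are conjugate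
  have hconj : ∀ u v : G, u * u = 1 → v * v = 1 → Odd (orderOf (u * v)) →
      ∃ d : G, d * u * d⁻¹ = v := by
    intro u v hu hv ⟨m, hm⟩
    have hui : u⁻¹ = u := inv_eq_of_mul_eq_one_right hu
    have hvi : v⁻¹ = v := inv_eq_of_mul_eq_one_right hv
    have hflip : ∀ i : ℕ, u * (u * v) ^ i = ((u * v) ^ i)⁻¹ * u := by
      intro i
      induction i with
      | zero => simp
      | succ i ih =>
        rw [pow_succ, ← mul_assoc, ih, ← pow_succ, pow_succ', mul_inv_rev, mul_inv_rev, hui, hvi]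
        simp only [mul_assoc]
        rw [← mul_assoc u u, hu, one_mul, mul_one]
    refine ⟨(u * v) ^ m, ?_⟩
    have h1 : (u * v) ^ (2 * m + 1) = 1 := hm ▸ pow_orderOf_eq_one (u * v)
    have h2 : (u * v) ^ (2 * m) = (u * v)⁻¹ := eq_inv_of_mul_eq_one_left (by rw [← pow_succ, h1])
    calc (u * v) ^ m * u * ((u * v) ^ m)⁻¹
        = (u * v) ^ m * (u * ((u * v) ^ m)⁻¹) := by rw [mul_assoc]
      _ = (u * v) ^ m * ((u * v) ^ m * u) := by
          rw [show u * ((u * v) ^ m)⁻¹ = u * (((u * v) ^ m)⁻¹ * u) * u by simp [mul_assoc, hu],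
            ← hflip m, ← mul_assoc u u, hu, one_mul]
      _ = (u * v) ^ (2 * m) * u := by rw [← mul_assoc, ← pow_add, two_mul]
      _ = v := by rw [h2, mul_inv_rev, hui, hvi, mul_assoc, hu, mul_one]
  have hgb2 : g * a * g⁻¹ * (g * a * g⁻¹) = 1 := by
    rw [show g * a * g⁻¹ * (g * a * g⁻¹) = g * (a * a) * g⁻¹ by group, hA a ha, mul_one,
      mul_inv_cancel]
  obtain ⟨d, hd⟩ := hconj b (g * a * g⁻¹) (hA b hb) hgb2 (hodd b hb hb1 a ha ha1 g hg)
  have he : d⁻¹ * g * a * (d⁻¹ * g)⁻¹ = b := by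
    calc d⁻¹ * g * a * (d⁻¹ * g)⁻¹ = d⁻¹ * (g * a * g⁻¹) * d := by group
      _ = d⁻¹ * (d * b * d⁻¹) * d := by rw [hd]
      _ = b := by group
  obtain ⟨n, hn, hne⟩ := hc.fus ha (g := d⁻¹ * g) (by rw [he]; exact hc.sc.1 hb)
  exact ⟨n, hn, hne.trans he⟩

/-- If all centralizers from `A` lie in `M`, fusion of elements of `A` into `M` stays in `M`. -/
theorem Control.key {S : Sylow 2 G} {A M : Subgroup G} (hc : Control S A)
    (hA : ∀ a ∈ A, a * a = 1) (hNM : normalizer (A : Set G) ≤ M)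
    (hCM : ∀ a ∈ A, a ≠ 1 → centralizer ({a} : Set G) ≤ M) {a g : G} (ha : a ∈ A) (ha1 : a ≠ 1)
    (hg : g * a * g⁻¹ ∈ M) : g ∈ M := by
  haveI : Fact (Nat.Prime 2) := ⟨Nat.prime_two⟩
  have hSM : (S : Subgroup G) ≤ M := hc.sylow_le.trans hNM
  have h2 : IsPGroup 2 ↥(zpowers (⟨g * a * g⁻¹, hg⟩ : ↥M)) := by
    refine IsPGroup.of_card (n := 1) ?_
    rw [Nat.card_zpowers, pow_one, orderOf_mk]
    refine orderOf_eq_prime ?_ (fun h => ha1 (conj_eq_one_iff.1 h))
    rw [sq, show g * a * g⁻¹ * (g * a * g⁻¹) = g * (a * a) * g⁻¹ by group, hA a ha, mul_one,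
      mul_inv_cancel]
  obtain ⟨Q, hQ⟩ := h2.exists_le_sylow
  obtain ⟨d, hd⟩ := MulAction.exists_smul_eq ↥M Q (S.subtype hSM)
  have hmem : (d : G) * g * a * ((d : G) * g)⁻¹ ∈ (S : Subgroup G) := by
    have h3 : d * ⟨g * a * g⁻¹, hg⟩ * d⁻¹ ∈ ((S.subtype hSM : Sylow 2 ↥M) : Subgroup ↥M) := by
      rw [← hd, Sylow.coe_subgroup_smul]
      exact smul_mem_pointwise_smul _ (MulAut.conj d) _ (hQ (mem_zpowers _))
    rw [show (d : G) * g * a * ((d : G) * g)⁻¹ = (d : G) * (g * a * g⁻¹) * (d : G)⁻¹ by group]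
    exact h3
  obtain ⟨n, hn, hne⟩ := hc.fus ha hmem
  have h1 : n⁻¹ * ((d : G) * g) ∈ centralizer ({a} : Set G) :=
    inv_mul_mem_centralizer fun x hx => by rw [Set.mem_singleton_iff.1 hx]; exact hne
  have := mul_mem (mul_mem (inv_mem d.2) (hNM hn)) (hCM a ha ha1 h1)
  rwa [show (d : G)⁻¹ * n * (n⁻¹ * ((d : G) * g)) = g by group] at this

/-- Two commuting conjugates of nontrivial elements of `A` lie in a common conjugate of `A`. -/
theorem Control.exists_common {S : Sylow 2 G} {A : Subgroup G} (hc : Control S A)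
    (hA : ∀ a ∈ A, a * a = 1) {a b g h : G} (ha : a ∈ A) (hb : b ∈ A)
    (hcomm : Commute (g * a * g⁻¹) (h * b * h⁻¹)) :
    ∃ c : G, c * (g * a * g⁻¹) * c⁻¹ ∈ A ∧ c * (h * b * h⁻¹) * c⁻¹ ∈ A := by
  haveI : Fact (Nat.Prime 2) := ⟨Nat.prime_two⟩
  set x := g * a * g⁻¹ with hx
  set y := h * b * h⁻¹ with hy
  have hx2 : x * x = 1 := by
    rw [hx, show g * a * g⁻¹ * (g * a * g⁻¹) = g * (a * a) * g⁻¹ by group, hA a ha, mul_one,
      mul_inv_cancel]
  have hy2 : y * y = 1 := by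
    rw [hy, show h * b * h⁻¹ * (h * b * h⁻¹) = h * (b * b) * h⁻¹ by group, hA b hb, mul_one,
      mul_inv_cancel]
  have hgen : ∀ u ∈ ({x, y} : Set G), ∀ v ∈ ({x, y} : Set G), u * v = v * u := by
    intro u hu v hv
    rcases hu with rfl | rfl <;> rcases hv with rfl | rfl
    · rfl
    · exact hcomm.eq
    · exact hcomm.eq.symm
    · rfl
  haveI := isMulCommutative_closure hgen
  have hP : IsPGroup 2 ↥(closure ({x, y} : Set G)) := by
    intro w
    refine ⟨1, Subtype.ext ?_⟩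
    show (w : G) ^ 2 ^ 1 = 1
    rw [pow_one, sq]
    refine closure_induction (p := fun z _ => z * z = 1) ?_ (mul_one 1) ?_ ?_ w.2
    · rintro z (rfl | rfl)
      · exact hx2
      · exact hy2
    · intro u v hu hv hu2 hv2
      have : Commute u v := congrArg Subtype.val (mul_comm'
        (⟨u, hu⟩ : ↥(closure ({x, y} : Set G))) ⟨v, hv⟩)
      rw [mul_assoc, ← mul_assoc v u v, ← this.eq, mul_assoc u v v, hv2, mul_one, hu2]
    · intro u _ hu2
      rw [← mul_inv_rev, hu2, inv_one]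
  obtain ⟨P, hPle⟩ := hP.exists_le_sylow
  obtain ⟨c, hcP⟩ := MulAction.exists_smul_eq G P S
  have hS : ∀ z ∈ ({x, y} : Set G), c * z * c⁻¹ ∈ (S : Subgroup G) := by
    intro z hz
    rw [← hcP, Sylow.coe_subgroup_smul]
    exact smul_mem_pointwise_smul z (MulAut.conj c) _ (hPle (subset_closure hz))
  refine ⟨c, ?_, ?_⟩
  · have := hc.sc.2 a ha (c * g) (by
      rw [show c * g * a * (c * g)⁻¹ = c * x * c⁻¹ by rw [hx]; group]
      exact hS x (Or.inl rfl))
    rwa [show c * g * a * (c * g)⁻¹ = c * x * c⁻¹ by rw [hx]; group] at this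
  · have := hc.sc.2 b hb (c * h) (by
      rw [show c * h * b * (c * h)⁻¹ = c * y * c⁻¹ by rw [hy]; group]
      exact hS y (Or.inr rfl))
    rwa [show c * h * b * (c * h)⁻¹ = c * y * c⁻¹ by rw [hy]; group] at this

/-- Conjugates of nontrivial elements of `A` at different points have product of odd order. -/
theorem Control.odd_mul {S : Sylow 2 G} {A M : Subgroup G} (hc : Control S A)
    (hA : ∀ a ∈ A, a * a = 1) (hNM : normalizer (A : Set G) ≤ M)
    (hCM : ∀ a ∈ A, a ≠ 1 → centralizer ({a} : Set G) ≤ M) {a b g : G} (ha : a ∈ A) (ha1 : a ≠ 1)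
    (hb : b ∈ A) (hb1 : b ≠ 1) (hg : g ∉ M) : Odd (orderOf (a * (g * b * g⁻¹))) := by
  rw [← Nat.not_even_iff_odd]
  intro hev
  set y := g * b * g⁻¹ with hy
  have ha2 := hA a ha
  have hy2 : y * y = 1 := by
    rw [hy, show g * b * g⁻¹ * (g * b * g⁻¹) = g * (b * b) * g⁻¹ by group, hA b hb, mul_one,
      mul_inv_cancel]
  have hai : a⁻¹ = a := inv_eq_of_mul_eq_one_right ha2
  have hyi : y⁻¹ = y := inv_eq_of_mul_eq_one_right hy2
  set d := a * y with hd
  clear_value d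
  obtain ⟨k, hk⟩ := hev
  have hd0 : 0 < orderOf d := orderOf_pos d
  set c := d ^ k with hcdef
  have hc1 : c ≠ 1 := fun h => by
    have := Nat.le_of_dvd (by omega) (orderOf_dvd_of_pow_eq_one h)
    omega
  have hc2 : c * c = 1 := by rw [hcdef, ← pow_add, ← hk, pow_orderOf_eq_one]
  have hci : c⁻¹ = c := inv_eq_of_mul_eq_one_right hc2
  have hflip : ∀ i : ℕ, a * d ^ i * a⁻¹ = (d ^ i)⁻¹ := by
    intro i
    rw [← inv_pow, ← conj_pow, hd, mul_inv_rev, hyi, hai]
    congr 1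
    rw [← mul_assoc a a y, ha2, one_mul]
  have hac : Commute a c := by
    have := hflip k
    rw [← hcdef, hci, hai] at this
    calc a * c = a * c * a * a := by rw [mul_assoc, ha2, mul_one]
      _ = c * a := by rw [this]
  -- `c * a` is conjugate to `a` or to `y`
  obtain ⟨e, he⟩ : ∃ e : G, c * a = e * a * e⁻¹ ∨ c * a = e * y * e⁻¹ := by
    rcases Nat.even_or_odd k with ⟨j, hj⟩ | ⟨j, hj⟩
    · refine ⟨d ^ j, Or.inl ?_⟩
      have h1 := hflip j
      rw [hai] at h1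
      rw [hcdef, hj, pow_add]
      calc d ^ j * d ^ j * a = d ^ j * (a * (a * d ^ j * a)) := by
            simp only [← mul_assoc]; rw [mul_assoc (d ^ j) a a, ha2, mul_one]
        _ = d ^ j * a * (d ^ j)⁻¹ := by rw [h1, ← mul_assoc]
    · refine ⟨d ^ j * a, Or.inr ?_⟩
      have h1 := hflip j
      rw [hcdef, hj, two_mul, pow_succ, pow_add]
      have hda : d = a * y := hd
      calc d ^ j * d ^ j * d * a = d ^ j * (d * d ^ j) * a := by
            rw [(Commute.self_pow d j).eq, ← mul_assoc]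
        _ = d ^ j * (a * y * d ^ j * a) := by rw [hda]; simp only [mul_assoc]
        _ = d ^ j * a * y * a * (a * d ^ j * a⁻¹) := by
            rw [hai]; simp only [← mul_assoc]; rw [mul_assoc _ a a, ha2, mul_one]
        _ = d ^ j * a * y * (d ^ j * a)⁻¹ := by
            rw [h1, mul_inv_rev, hai]; simp only [mul_assoc]
  -- a common conjugate of `A` contains `c`
  have hcom : Commute a (c * a) := hac.mul_right (Commute.refl a)
  obtain ⟨f, hfa, hfc⟩ : ∃ f : G, f * a * f⁻¹ ∈ A ∧ f * (c * a) * f⁻¹ ∈ A := by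
    rcases he with he | he
    · obtain ⟨f, h1, h2⟩ := hc.exists_common hA (g := 1) (h := e) ha ha
        (by rw [one_mul, inv_one, mul_one, ← he]; exact hcom)
      exact ⟨f, by simpa using h1, by rw [he]; exact h2⟩
    · have he' : c * a = e * g * b * (e * g)⁻¹ := by rw [he, hy]; group
      obtain ⟨f, h1, h2⟩ := hc.exists_common hA (g := 1) (h := e * g) ha hb
        (by rw [one_mul, inv_one, mul_one, ← he']; exact hcom)
      exact ⟨f, by simpa using h1, by rw [he']; exact h2⟩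
  set c' := f * c * f⁻¹ with hc'
  have hc'A : c' ∈ A := by
    have := mul_mem hfc hfa
    rwa [show f * (c * a) * f⁻¹ * (f * a * f⁻¹) = f * (c * (a * a)) * f⁻¹ by group, ha2,
      mul_one] at this
  have hc'1 : c' ≠ 1 := fun h => hc1 (conj_eq_one_iff.1 h)
  have hmemC : ∀ z : G, Commute z c → f * z * f⁻¹ ∈ M := fun z hz =>
    hCM c' hc'A hc'1 (mem_centralizer_singleton_iff.2 (by
      rw [hc', show f * z * f⁻¹ * (f * c * f⁻¹) = f * (z * c) * f⁻¹ by group, hz.eq]
      group))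
  have hfM : f ∈ M := hc.key hA hNM hCM ha ha1 (hmemC a hac)
  have hyc : Commute y c := by
    have h1 : Commute d c := Commute.self_pow d k
    have h2 : y = a * d := by rw [hd, ← mul_assoc, ha2, one_mul]
    rw [h2]
    exact hac.mul_left h1
  have h3 : f * g * b * (f * g)⁻¹ ∈ M := by
    have := hmemC y hyc
    rwa [show f * y * f⁻¹ = f * g * b * (f * g)⁻¹ by rw [hy]; group] at this
  have := mul_mem (inv_mem hfM) (hc.key hA hNM hCM hb hb1 h3)
  rw [inv_mul_cancel_left] at this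
  exact hg this

end Cfsg.Agent.ThreePrime24
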